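import Groth.Agent.Lib.Neutral.Constructible
import Groth.Agent.Lib.Neutral.OpenSubgroup
import Groth.Agent.Lib.Neutral.Artin
import Groth.Agent.Lib.Constr.Topology

/-!
# The points of a commutative group scheme which are torsion modulo the neutral components
-/

universe u

open CategoryTheory CategoryTheory.Limits MonoidalCategory CartesianMonoidalCategory MonObj GrpObj
open AlgebraicGeometry Topology

set_option backward.isDefEq.respectTransparency false
set_option linter.style.haveILetI false
set_option linter.unusedSectionVars false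
set_option synthInstance.maxHeartbeats 200000

noncomputable section

namespace GrothLib.TorsGrp26

open GrothLib.SepAct GrothLib.Neutral

variable {S : Scheme.{u}} (G : Over S) [GrpObj G]

/-- The points whose `n`-th power is in the neutral component of their fibre. -/
def tn (n : ℕ) : Set G.left := {x | ((𝟙 G : G ⟶ G) ^ n).left.base x ∈ SGA3x.neutralSet G}

/-- The algebraically closed field attached to a point. -/
abbrev kbar (x : G.left) : Type u := AlgebraicClosure (G.left.residueField x)

/-- The geometric point at `x`. -/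
def geo (x : G.left) : Spec (CommRingCat.of (kbar G x)) ⟶ G.left :=
  Spec.map (CommRingCat.ofHom (algebraMap (G.left.residueField x) (kbar G x))) ≫ G.left.fromSpecResidueField x

/-- Its image in the base. -/
def geoBase (x : G.left) : Spec (CommRingCat.of (kbar G x)) ⟶ S := geo G x ≫ G.hom

/-- The tautological point. -/
def taut (x : G.left) : Over.mk (geoBase G x) ⟶ G := Over.homMk (geo G x)

/-- The point of the base of the geometric point. -/
abbrev gpt (x : G.left) : ↥(Spec (CommRingCat.of (kbar G x))) := IsLocalRing.closedPoint (kbar G x)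

theorem geo_gpt (x : G.left) : geo G x (gpt G x) = x := by
  simp only [geo, Scheme.Hom.comp_apply]
  exact G.left.fromSpecResidueField_apply x _

theorem taut_pow_apply (x : G.left) (n : ℕ) :
    (taut G x ^ n).left (gpt G x) = ((𝟙 G : G ⟶ G) ^ n).left.base x := by
  have h : taut G x ^ n = taut G x ≫ (𝟙 G : G ⟶ G) ^ n := by rw [MonObj.comp_pow, Category.comp_id]
  rw [h, Over.comp_left, Scheme.Hom.comp_apply]
  exact congrArg _ (geo_gpt G x)

variable [LocallyOfFiniteType G.hom]

theorem hG (s : S) : LocallyOfFiniteType (G.hom.fiberToSpecResidueField s) :=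
  MorphismProperty.pullback_snd _ _ inferInstance

/-- The points landing in the neutral components form a subgroup. -/
def sub {K : Type u} [Field K] (b : Spec (CommRingCat.of K) ⟶ S) : Subgroup (Over.mk b ⟶ G) where
  carrier := {h | h.left (IsLocalRing.closedPoint K) ∈ SGA3x.neutralSet G}
  one_mem' := by
    show (1 : Over.mk b ⟶ G).left (IsLocalRing.closedPoint K) ∈ SGA3x.neutralSet G
    rw [Hom.one_def, Over.comp_left, Scheme.Hom.comp_apply]
    exact unit_mem_neutralSet G _
  mul_mem' := by
    intro h₁ h₂ m₁ m₂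
    show (h₁ * h₂).left (IsLocalRing.closedPoint K) ∈ SGA3x.neutralSet G
    rw [Hom.mul_def, Over.comp_left, Scheme.Hom.comp_apply]
    refine mul_mem_neutralSet G _ (hG G _) ?_ ?_
    · rw [← Scheme.Hom.comp_apply, ← Over.comp_left, lift_fst]; exact m₁
    · rw [← Scheme.Hom.comp_apply, ← Over.comp_left, lift_snd]; exact m₂
  inv_mem' := by
    intro h m
    show (h⁻¹).left (IsLocalRing.closedPoint K) ∈ SGA3x.neutralSet G
    rw [Hom.inv_def, Over.comp_left, Scheme.Hom.comp_apply]
    exact inv_mem_neutralSet G m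

theorem mem_tn_iff (x : G.left) (n : ℕ) : x ∈ tn G n ↔ taut G x ^ n ∈ sub G (geoBase G x) := by
  show _ ↔ (taut G x ^ n).left (gpt G x) ∈ SGA3x.neutralSet G
  rw [taut_pow_apply]
  rfl

theorem tn_mono {x : G.left} {m n : ℕ} (h : m ∣ n) (hx : x ∈ tn G m) : x ∈ tn G n := by
  rw [mem_tn_iff] at hx ⊢
  obtain ⟨c, rfl⟩ := h
  rw [pow_mul]
  exact pow_mem hx c

theorem tn_gcd {x : G.left} {m n : ℕ} (hm : x ∈ tn G m) (hn : x ∈ tn G n) : x ∈ tn G (m.gcd n) := by
  rw [mem_tn_iff] at hm hn ⊢
  rw [← zpow_natCast, Nat.gcd_eq_gcd_ab, zpow_add, zpow_mul, zpow_mul, zpow_natCast, zpow_natCast]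
  exact mul_mem (zpow_mem hm _) (zpow_mem hn _)

/-- A point whose powers stay in a quasi-compact open is torsion. -/
theorem exists_tn_of_forall_mem [QuasiSeparatedSpace S] [IsLocallyNoetherian S] (x : G.left) (U : G.left.Opens)
    (hU : IsCompact (U : Set G.left)) {N : ℕ} (hN : 0 < N)
    (h : ∀ j : ℕ, ((𝟙 G : G ⟶ G) ^ (N * j)).left.base x ∈ U) : ∃ n, 0 < n ∧ x ∈ tn G n := by
  let b := geoBase G x
  let T := Over.mk b
  haveI : LocallyOfFiniteType (pullback.snd G.hom b) := MorphismProperty.pullback_snd _ _ inferInstance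
  haveI : QuasiCompact b := inferInstance
  let π : (G ⊗ T).left ⟶ G.left := (fst G T).left
  haveI : QuasiCompact π := show QuasiCompact (pullback.fst G.hom b) from inferInstance
  haveI : IsLocallyNoetherian (G ⊗ T).left := by
    show IsLocallyNoetherian (pullback G.hom b)
    haveI : IsNoetherianRing (CommRingCat.of (kbar G x)) := inferInstanceAs (IsNoetherianRing (kbar G x))
    exact LocallyOfFiniteType.isLocallyNoetherian (pullback.snd G.hom b)
  let W : (G ⊗ T).left.Opens := π ⁻¹ᵁ U
  haveI : CompactSpace W.toScheme := isCompact_iff_compactSpace.1 (π.isCompact_preimage hU)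
  haveI : IsNoetherian W.toScheme := {}
  have hfin : (irreducibleComponents ↥W.toScheme).Finite :=
    TopologicalSpace.NoetherianSpace.finite_irreducibleComponents
  have hpt : ∀ j : ℕ, ptOf b (taut G x ^ (N * j)) ∈ W := fun j => by
    show (fst G T).left (ptOf b (taut G x ^ (N * j))) ∈ U
    rw [show (fst G T).left (ptOf b (taut G x ^ (N * j))) = (taut G x ^ (N * j)).left (gpt G x) from
      left_apply (lift_fst (taut G x ^ (N * j)) (𝟙 T)) _, taut_pow_apply]
    exact h j
  let c : ℕ → Set ↥W.toScheme := fun j => irreducibleComponent (⟨_, hpt j⟩ : W)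
  haveI := hfin.to_subtype
  obtain ⟨i, j, hne, heq⟩ := Finite.exists_ne_map_eq_of_infinite
    (fun j => (⟨c j, irreducibleComponent_mem_irreducibleComponents _⟩ : irreducibleComponents ↥W.toScheme))
  wlog hij : i < j generalizing i j
  · exact this j i (Ne.symm hne) heq.symm (lt_of_le_of_ne (not_lt.1 hij) (Ne.symm hne))
  have hsame : ptOf b (taut G x ^ (N * j)) ∈ connectedComponent (ptOf b (taut G x ^ (N * i))) := by
    have hc : c j = c i := (congrArg Subtype.val heq).symm
    refine (((isIrreducible_irreducibleComponent (x := (⟨_, hpt i⟩ : W))).isPreirreducible.isPreconnected).image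
      W.ι W.ι.continuous.continuousOn).subset_connectedComponent ⟨_, mem_irreducibleComponent, rfl⟩ ?_
    exact ⟨⟨_, hpt j⟩, show (⟨_, hpt j⟩ : W) ∈ c i from hc ▸ (mem_irreducibleComponent : (⟨_, hpt j⟩ : W) ∈ c j), rfl⟩
  refine ⟨N * (j - i), Nat.mul_pos hN (Nat.sub_pos_of_lt hij), ?_⟩
  rw [mem_tn_iff]
  let e := transL T (taut G x ^ (N * i))⁻¹
  have h1 := e.hom.left.continuous.image_connectedComponent_subset _ ⟨_, hsame, rfl⟩
  rw [transL_ptOf, transL_ptOf, inv_mul_cancel, ← preimage_neutralSet, Set.mem_preimage] at h1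
  rw [show (fst G T).left (ptOf b ((taut G x ^ (N * i))⁻¹ * taut G x ^ (N * j))) =
    ((taut G x ^ (N * i))⁻¹ * taut G x ^ (N * j)).left (gpt G x) from
      left_apply (lift_fst _ (𝟙 T)) _] at h1
  have e1 : (taut G x ^ (N * i))⁻¹ * taut G x ^ (N * j) = taut G x ^ (N * (j - i)) := by
    rw [inv_mul_eq_iff_eq_mul, ← pow_add, ← Nat.mul_add, Nat.add_sub_cancel' hij.le]
  rw [e1] at h1
  exact h1

end GrothLib.TorsGrp26
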