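import Groth.Agent.Lib.TorsGrp26.Main

/-!
# The locus of a given residue characteristic exponent
-/

universe u

open CategoryTheory AlgebraicGeometry Topology

set_option backward.isDefEq.respectTransparency false
set_option linter.style.haveILetI false

namespace GrothLib.TorsGrp26

theorem ringExpChar_eq_prime_iff {K : Type u} [Field K] {l : ℕ} (hl : l.Prime) :
    ringExpChar K = l ↔ (l : K) = 0 := by
  constructor
  · intro h
    have := ringExpChar.of_eq h
    haveI : ExpChar K l := this
    rcases this with _ | ⟨hq⟩
    · exact absurd rfl hl.one_lt.ne'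
    · exact CharP.cast_eq_zero K l
  · intro h
    haveI : CharP K l := by
      have h1 : ringChar K ∣ l := ringChar.dvd h
      rcases (Nat.dvd_prime hl).1 h1 with h2 | h2
      · exact absurd h2 (CharP.ringChar_ne_one)
      · exact ringChar.of_eq h2
    haveI : ExpChar K l := ExpChar.prime hl
    exact ringExpChar.eq K l

theorem isClosed_expChar_eq {S : Scheme.{u}} {l : ℕ} (hl : l.Prime) :
    IsClosed {s : S | ringExpChar (S.residueField s) = l} := by
  have h : {s : S | ringExpChar (S.residueField s) = l} = (S.basicOpen (l : Γ(S, ⊤)) : Set S)ᶜ := by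
    ext s
    simp only [Set.mem_ofPred_eq, Set.mem_compl_iff, SetLike.mem_coe, ringExpChar_eq_prime_iff hl]
    rw [← Scheme.evaluation_eq_zero_iff_notMem_basicOpen S (U := ⊤) s trivial]
    simp
  rw [h]
  exact (S.basicOpen _).2.isClosed_compl

end GrothLib.TorsGrp26
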