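import Groth.Agent.Lib.TorsGrp26.Basic
import Groth.Agent.Lib.LocNoeth.Scheme

/-!
# Openness and closedness of the torsion points
-/

universe u

open CategoryTheory CategoryTheory.Limits MonoidalCategory CartesianMonoidalCategory MonObj GrpObj
open AlgebraicGeometry Topology

set_option backward.isDefEq.respectTransparency false
set_option linter.style.haveILetI false
set_option linter.unusedSectionVars false
set_option synthInstance.maxHeartbeats 200000

noncomputable section

namespace GrothLib.TorsGrp26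

open GrothLib.Neutral

variable {S : Scheme.{u}} [IsLocallyNoetherian S] (G : Over S) [GrpObj G] [LocallyOfFiniteType G.hom]

theorem isLocallyConstructible_tn (n : ℕ) : IsLocallyConstructible (tn G n) := by
  haveI : IsLocallyNoetherian G.left := LocallyOfFiniteType.isLocallyNoetherian G.hom
  exact GrothLib.Constr.isLocallyConstructible_preimage _ (isLocallyConstructible_neutralSet G)

/-- The points torsion modulo the neutral components. -/
def tau : Set G.left := {x | ∃ n : ℕ, 0 < n ∧ x ∈ tn G n}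

theorem isOpen_tau : IsOpen (tau G) := by
  haveI : IsLocallyNoetherian G.left := LocallyOfFiniteType.isLocallyNoetherian G.hom
  have hind : ProCons.IsIndConstructible (tau G) := by
    refine GrothLib.Constr.isIndConstructible_of_forall_mem fun x hx => ?_
    obtain ⟨n, hn, hxn⟩ := hx
    obtain ⟨V, hV, hxV, -⟩ := GrothLib.Constr.exists_affine_nhd x isOpen_univ (Set.mem_univ x)
    haveI := GrothLib.Constr.compactSpace_of_isAffineOpen hV
    haveI := GrothLib.Constr.quasiSeparatedSpace_of_isAffineOpen hV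
    refine ⟨V, hxV, inferInstance, inferInstance, ?_⟩
    letI := constructibleTopology (V : Set G.left)
    have h : (Subtype.val ⁻¹' tau G : Set (V : Set G.left)) = ⋃ (m : ℕ) (_ : 0 < m), Subtype.val ⁻¹' tn G m := by
      ext v
      simp only [Set.mem_iUnion, Set.mem_preimage, tau, Set.mem_ofPred_eq, exists_prop]
    rw [h]
    exact isOpen_biUnion fun m _ => GrothLib.Constr.isOpen_preimage_of_isIndConstructible
      (GrothLib.Constr.isIndConstructible_of_isLocallyConstructible (isLocallyConstructible_tn G m)) V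
  rw [← subset_interior_iff_isOpen]
  rintro x ⟨n, hn, hxn⟩
  refine (GrothLib.Constr.mem_interior_iff hind).2 fun y hy => ?_
  obtain ⟨S₀, hS₀, hxS, -⟩ := GrothLib.Constr.exists_affine_nhd (G.hom x) isOpen_univ (Set.mem_univ _)
  haveI : QuasiSeparatedSpace S₀.toScheme := GrothLib.Constr.quasiSeparatedSpace_of_isAffineOpen hS₀
  obtain ⟨U, hU, -, hsub⟩ := exists_isCompact_supset G (hG G) S₀ hS₀.isCompact
  refine exists_tn_of_forall_mem G y U hU hn fun j => ?_
  let p := ((𝟙 G : G ⟶ G) ^ (n * j))
  have hp : p.left.base x ∈ SGA3x.neutralSet G := tn_mono G (Dvd.intro j rfl) hxn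
  have hps : G.hom (p.left.base x) = G.hom x := by
    rw [← Scheme.Hom.comp_apply, Over.w p]
  exact (hy.map p.left.continuous).mem_open U.2 (hsub ⟨hp, by show _ ∈ S₀; rw [hps]; exact hxS⟩)

variable (h0 : IsClosed (SGA3x.neutralSet G))
include h0

theorem isClosed_tn (n : ℕ) : IsClosed (tn G n) := h0.preimage (Scheme.Hom.continuous _)

/-- On a quasi-compact open the orders are bounded. -/
theorem exists_bound (V : G.left.Opens) (hV : IsCompact (V : Set G.left)) :
    ∃ N : ℕ, 0 < N ∧ ∀ x ∈ V, x ∈ tau G → x ∈ tn G N := by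
  haveI : IsLocallyNoetherian G.left := LocallyOfFiniteType.isLocallyNoetherian G.hom
  let W : G.left.Opens := V ⊓ ⟨tau G, isOpen_tau G⟩
  haveI : CompactSpace W.toScheme := by
    haveI : CompactSpace V.toScheme := isCompact_iff_compactSpace.1 hV
    haveI : IsNoetherian V.toScheme := {}
    haveI : TopologicalSpace.NoetherianSpace (V : Set G.left) :=
      inferInstanceAs (TopologicalSpace.NoetherianSpace ↥V.toScheme)
    refine isCompact_iff_compactSpace.1 ?_
    have h := (TopologicalSpace.NoetherianSpace.isCompact (Subtype.val ⁻¹' tau G : Set (V : Set G.left))).image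
      continuous_subtype_val
    rwa [Subtype.image_preimage_coe] at h
  haveI : IsNoetherian W.toScheme := {}
  have hfin : (irreducibleComponents ↥W.toScheme).Finite :=
    TopologicalSpace.NoetherianSpace.finite_irreducibleComponents
  have hc : ∀ C ∈ irreducibleComponents ↥W.toScheme, ∃ n, 0 < n ∧ ∀ w ∈ C, W.ι w ∈ tn G n := by
    intro C hC
    obtain ⟨g, hg⟩ := QuasiSober.sober hC.1 (isClosed_of_mem_irreducibleComponents _ hC)
    obtain ⟨n, hn, hgn⟩ := (g.2 : g.1 ∈ V ∧ g.1 ∈ tau G).2
    refine ⟨n, hn, fun w hw => ?_⟩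
    have hsp : g ⤳ w := hg.specializes hw
    exact (hsp.map W.ι.continuous).mem_closed (isClosed_tn G h0 n) hgn
  choose n hn hmem using hc
  haveI := hfin.fintype
  refine ⟨∏ C : irreducibleComponents ↥W.toScheme, n C.1 C.2, Finset.prod_pos fun C _ => hn C.1 C.2,
    fun x hxV hx => ?_⟩
  let w : W := ⟨x, hxV, hx⟩
  refine tn_mono G ?_ (hmem _ (irreducibleComponent_mem_irreducibleComponents w) w mem_irreducibleComponent)
  exact Finset.dvd_prod_of_mem (fun C : irreducibleComponents ↥W.toScheme => n C.1 C.2)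
    (Finset.mem_univ (⟨_, irreducibleComponent_mem_irreducibleComponents w⟩ : irreducibleComponents ↥W.toScheme))

/-- A set of torsion points cut out, order by order, by closed sets is closed. -/
theorem isClosed_of_orders (A : ℕ → Set G.left) (hA : ∀ d, 0 < d → IsClosed (A d))
    (E : Set G.left) (hE : E = ⋃ (d : ℕ) (_ : 0 < d), A d ∩ tn G d)
    (hdvd : ∀ x d N, x ∈ A d → x ∈ tn G d → x ∈ tn G N → x ∈ A (Nat.gcd d N)) : IsClosed E := by
  rw [← isOpen_compl_iff, isOpen_iff_forall_mem_open]
  intro x hx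
  obtain ⟨V, hV, hxV, -⟩ := GrothLib.Constr.exists_affine_nhd x isOpen_univ (Set.mem_univ x)
  obtain ⟨N, hN, hb⟩ := exists_bound G h0 V hV.isCompact
  refine ⟨(V : Set G.left) \ ⋃ d ∈ N.divisors, A d ∩ tn G d, ?_, ?_, hxV, ?_⟩
  · rintro y ⟨hyV, hy⟩ hyE
    rw [hE] at hyE
    obtain ⟨d, hd, hyA, hyd⟩ := Set.mem_iUnion₂.1 hyE
    have hyN := hb y hyV ⟨d, hd, hyd⟩
    exact hy (Set.mem_iUnion₂.2 ⟨Nat.gcd d N, Nat.mem_divisors.2 ⟨Nat.gcd_dvd_right d N, hN.ne'⟩,
      hdvd y d N hyA hyd hyN, tn_gcd G hyd hyN⟩)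
  · exact V.2.sdiff (N.divisors.finite_toSet.isClosed_biUnion fun d hd =>
      (hA d (Nat.pos_of_mem_divisors hd)).inter (isClosed_tn G h0 d))
  · intro hm
    obtain ⟨d, hd, hxd⟩ := Set.mem_iUnion₂.1 hm
    exact hx (hE ▸ Set.mem_iUnion₂.2 ⟨d, Nat.pos_of_mem_divisors hd, hxd⟩)

end GrothLib.TorsGrp26
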