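import Groth.Agent.Lib.Neutral.HomImage
import Groth.Agent.Lib.TorsGrp26.Main
import Groth.Agent.Lib.GenMap.OpenMap
import Groth.Agent.Lib.GrpDeligne.Factor
import Groth.Agent.Lib.LocProp.Stalk

/-!
# Points killed modulo the neutral components by a power of the characteristic exponent
-/

universe u

open CategoryTheory CategoryTheory.Limits MonoidalCategory CartesianMonoidalCategory MonObj GrpObj
open AlgebraicGeometry Topology

set_option backward.isDefEq.respectTransparency false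
set_option linter.style.haveILetI false
set_option linter.unusedSectionVars false
set_option synthInstance.maxHeartbeats 200000

noncomputable section

namespace GrothLib.TorsGrp26

open GrothLib.Neutral
open GrothLib.SepAct (left_apply left_apply₂)

section Image

variable {S : Scheme.{u}} (G H : Over S) [GrpObj G] [GrpObj H]
  [LocallyOfFinitePresentation G.hom] [LocallyOfFinitePresentation H.hom] (u : G ⟶ H) [IsMonHom u]

/-- An open homomorphism maps the neutral components onto the neutral components. -/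
theorem image_neutralSet_of_isOpenMap (hu : IsOpenMap u.left) : u.left '' SGA3x.neutralSet G = SGA3x.neutralSet H := by
  refine Set.Subset.antisymm (image_neutralSet_subset H G u) fun h hh => ?_
  let s := H.hom h
  let k := S.fromSpecResidueField s
  let ψ := ((Over.pullback k).map u).left
  have sq := GrothLib.FibreLocus.isPullback_map_left u k
  have hψ0 : IsOpenMap ψ := fun O hO => by
    obtain ⟨O', hO', rfl⟩ := (G.hom.fiberι s).isEmbedding.isInducing.isOpen_iff.mp hO
    refine (H.hom.fiberι s).isEmbedding.isInducing.isOpen_iff.mpr ⟨u.left '' O', hu _ hO', ?_⟩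
    ext v
    constructor
    · rintro ⟨w, hw, hwv⟩
      obtain ⟨w', rfl⟩ : w ∈ Set.range (G.hom.fiberι s) := by
        rw [G.hom.range_fiberι]
        show G.hom w = s
        rw [← Over.w u, Scheme.Hom.comp_apply, hwv]
        exact (H.hom.range_fiberι s).le ⟨v, rfl⟩
      exact ⟨w', hw, (H.hom.fiberι s).isEmbedding.injective ((congr($(sq.w) w')).trans hwv)⟩
    · rintro ⟨w', hw', rfl⟩
      exact ⟨_, hw', (congr($(sq.w) w')).symm⟩
  obtain ⟨W, hW⟩ := exists_open_trace G s
  obtain ⟨V, hV, hV'⟩ := (H.hom.fiberι s).isEmbedding.isInducing.isOpen_iff.mp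
    (hψ0 _ (W.2.preimage (G.hom.fiberι s).continuous))
  have hψ : ∀ v, H.hom.fiberι s (ψ v) = u.left (G.hom.fiberι s v) := fun v => by
    exact congr($(sq.w) v)
  have hVs : ∀ y ∈ V, H.hom y = s → ∃ w ∈ W, u.left w = y := by
    intro y hy hys
    obtain ⟨v, rfl⟩ : y ∈ Set.range (H.hom.fiberι s) := by rw [H.hom.range_fiberι]; exact hys
    obtain ⟨w, hw, rfl⟩ := hV'.le hy
    exact ⟨_, hw, (hψ w).symm⟩
  have heV : η[H].left s ∈ V := by
    obtain ⟨v, hv⟩ : η[G].left s ∈ Set.range (G.hom.fiberι s) := by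
      rw [G.hom.range_fiberι]; exact hom_unit G s
    have hvW : G.hom.fiberι s v ∈ W := (hW.ge (by rw [hv]; exact ⟨unit_mem_neutralSet G s, hom_unit G s⟩)).1
    have := hV'.ge ⟨v, hvW, rfl⟩
    rw [Set.mem_preimage, hψ, hv, map_unit H G u] at this
    exact this
  obtain ⟨q, h₁, h₂, rfl⟩ := exists_pair H h hh
    (MorphismProperty.pullback_snd _ _ inferInstance) ⟨V, hV⟩ heV
  let J : pullback (W.ι ≫ G.hom) (W.ι ≫ G.hom) ⟶ (H ⊗ H).left :=
    pullback.map _ _ H.hom H.hom (W.ι ≫ u.left) (W.ι ≫ u.left) (𝟙 _) (by simp) (by simp)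
  have hJ : Set.range J = _ := Scheme.Pullback.range_map _ _ H.hom H.hom (W.ι ≫ u.left) (W.ι ≫ u.left) (𝟙 _)
    (by simp) (by simp)
  have hqs : ∀ f : H ⊗ H ⟶ H, H.hom (f.left q) = s := fun f => by
    change H.hom (f.left q) = H.hom (μ[H].left q)
    rw [← Scheme.Hom.comp_apply, ← Scheme.Hom.comp_apply, Over.w, Over.w]
  obtain ⟨v, rfl⟩ : q ∈ Set.range J := by
    rw [hJ]
    obtain ⟨a, ha, ha'⟩ := hVs _ h₁ (hqs _)
    obtain ⟨b, hb, hb'⟩ := hVs _ h₂ (hqs _)
    exact ⟨⟨⟨a, ha⟩, ha'⟩, ⟨⟨b, hb⟩, hb'⟩⟩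
  let J' : pullback (W.ι ≫ G.hom) (W.ι ≫ G.hom) ⟶ (G ⊗ G).left :=
    pullback.map _ _ G.hom G.hom W.ι W.ι (𝟙 _) (by simp) (by simp)
  have hJJ' : J' ≫ (u ⊗ₘ u).left = J := by
    apply pullback.hom_ext
    · rw [Category.assoc]
      change J' ≫ (u ⊗ₘ u).left ≫ (fst H H).left = _
      rw [← Over.comp_left, tensorHom_fst, Over.comp_left]
      change J' ≫ pullback.fst G.hom G.hom ≫ u.left = _
      rw [← Category.assoc, pullback.lift_fst, pullback.lift_fst, Category.assoc]
    · rw [Category.assoc]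
      change J' ≫ (u ⊗ₘ u).left ≫ (snd H H).left = _
      rw [← Over.comp_left, tensorHom_snd, Over.comp_left]
      change J' ≫ pullback.snd G.hom G.hom ≫ u.left = _
      rw [← Category.assoc, pullback.lift_snd, pullback.lift_snd, Category.assoc]
  have hGs : ∀ f : G ⊗ G ⟶ G, G.hom (f.left (J' v)) = s := fun f => by
    have e : G.hom (f.left (J' v)) = (H ⊗ H).hom (J v) := by
      rw [← Scheme.Hom.comp_apply, Over.w f, ← Over.w (u ⊗ₘ u), Scheme.Hom.comp_apply,
        ← Scheme.Hom.comp_apply J', hJJ']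
    rw [e, ← Over.w μ[H], Scheme.Hom.comp_apply]
  have hWN : ∀ w : G.left, w ∈ W → G.hom w = s → w ∈ SGA3x.neutralSet G := fun w hw hws =>
    (hW.le ⟨hw, hws⟩).1
  have hp₁ : (fst G G).left (J' v) ∈ W := by
    rw [← Scheme.Hom.comp_apply, show J' ≫ (fst G G).left = pullback.fst _ _ ≫ W.ι from pullback.lift_fst _ _ _]
    exact (pullback.fst (W.ι ≫ G.hom) (W.ι ≫ G.hom) v).2
  have hp₂ : (snd G G).left (J' v) ∈ W := by
    rw [← Scheme.Hom.comp_apply, show J' ≫ (snd G G).left = pullback.snd _ _ ≫ W.ι from pullback.lift_snd _ _ _]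
    exact (pullback.snd (W.ι ≫ G.hom) (W.ι ≫ G.hom) v).2
  refine ⟨μ[G].left (J' v), mul_mem_neutralSet G _ (MorphismProperty.pullback_snd _ _ inferInstance)
    (hWN _ hp₁ (hGs _)) (hWN _ hp₂ (hGs _)), ?_⟩
  rw [← hJJ', Scheme.Hom.comp_apply]
  exact left_apply₂ (IsMonHom.mul_hom (f := u)) _

end Image

section Rho

variable {S : Scheme.{u}} [IsLocallyNoetherian S] (G : Over S) [GrpObj G] [LocallyOfFiniteType G.hom]

theorem pow_left_pow (x : G.left) (a b : ℕ) :
    ((𝟙 G : G ⟶ G) ^ b).left.base (((𝟙 G : G ⟶ G) ^ a).left.base x) = ((𝟙 G : G ⟶ G) ^ (a * b)).left.base x := by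
  rw [pow_mul]
  have h : ((𝟙 G : G ⟶ G) ^ a) ≫ (𝟙 G : G ⟶ G) ^ b = ((𝟙 G : G ⟶ G) ^ a) ^ b := by
    rw [MonObj.comp_pow, Category.comp_id]
  rw [← h]
  rfl

theorem pow_hom (x : G.left) (a : ℕ) : G.hom (((𝟙 G : G ⟶ G) ^ a).left.base x) = G.hom x := by
  rw [← Scheme.Hom.comp_apply, Over.w]

/-- The condition is constant on connected parts of the fibres. -/
theorem mem_tn_of_isPreconnected {C : Set G.left} (hC : _root_.IsPreconnected C) {t : S} (hCt : ∀ c ∈ C, G.hom c = t)
    {a b : G.left} (ha : a ∈ C) (hb : b ∈ C) {n : ℕ} (han : a ∈ tn G n) : b ∈ tn G n := by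
  let p := ((𝟙 G : G ⟶ G) ^ n).left
  have h1 : p a ∈ SGA3x.neutralSet G ∩ G.hom ⁻¹' {t} := ⟨han, (pow_hom G a n).trans (hCt a ha)⟩
  rw [neutralSet_inter_fibre] at h1
  have h2 : p b ∈ connectedComponentIn (G.hom ⁻¹' {t}) (η[G].left t) := by
    rw [connectedComponentIn_eq h1]
    exact (hC.image p p.continuous.continuousOn).subset_connectedComponentIn ⟨a, ha, rfl⟩
      (by rintro _ ⟨c, hc, rfl⟩; exact (pow_hom G c n).trans (hCt c hc)) ⟨b, hb, rfl⟩
  rw [← neutralSet_inter_fibre] at h2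
  exact h2.1

variable [IsCommMonObj G]

/-- If the powers prime to `p` are open maps, the points killed by a power of `p` form an open set. -/
theorem isOpen_rho {p : ℕ} (hp : p = 1 ∨ p.Prime)
    (hopen : ∀ n : ℕ, 0 < n → Nat.Coprime n p → IsOpenMap ((𝟙 G : G ⟶ G) ^ n).left.base) :
    IsOpen {x : ↥G.left | ∃ h : ℕ, ((𝟙 G : G ⟶ G) ^ (p ^ h)).left.base x ∈ SGA3x.neutralSet G} := by
  classical
  haveI : IsLocallyNoetherian G.left := LocallyOfFiniteType.isLocallyNoetherian G.hom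
  haveI : LocallyOfFinitePresentation G.hom := LocProp.locallyOfFinitePresentation_of_isLocallyNoetherian _
  have hp0 : 0 < p := hp.elim (fun h => h ▸ one_pos) fun h => h.pos
  let E : Set G.left := {x | ∃ h : ℕ, x ∈ tn G (p ^ h)}
  have hind : ProCons.IsIndConstructible E := by
    refine GrothLib.Constr.isIndConstructible_of_forall_mem fun x _ => ?_
    obtain ⟨V, hV, hxV, -⟩ := GrothLib.Constr.exists_affine_nhd x isOpen_univ (Set.mem_univ x)
    haveI := GrothLib.Constr.compactSpace_of_isAffineOpen hV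
    haveI := GrothLib.Constr.quasiSeparatedSpace_of_isAffineOpen hV
    refine ⟨V, hxV, inferInstance, inferInstance, ?_⟩
    letI := constructibleTopology (V : Set G.left)
    have h : (Subtype.val ⁻¹' E : Set (V : Set G.left)) = ⋃ m : ℕ, Subtype.val ⁻¹' tn G (p ^ m) := by
      ext v
      simp only [Set.mem_iUnion, Set.mem_preimage, E, Set.mem_ofPred_eq]
    rw [h]
    exact isOpen_iUnion fun m => GrothLib.Constr.isOpen_preimage_of_isIndConstructible
      (GrothLib.Constr.isIndConstructible_of_isLocallyConstructible (isLocallyConstructible_tn G _)) V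
  show IsOpen E
  rw [← subset_interior_iff_isOpen]
  rintro x ⟨h, hx⟩
  refine (GrothLib.Constr.mem_interior_iff hind).2 fun y hy => ?_
  obtain ⟨n, hn, hyn⟩ : y ∈ tau G :=
    hy.mem_open (isOpen_tau G) ⟨p ^ h, Nat.pow_pos hp0, hx⟩
  obtain ⟨a, m, hm, rfl⟩ : ∃ a m, Nat.Coprime m p ∧ n = p ^ a * m := by
    rcases hp with rfl | hp
    · exact ⟨0, n, Nat.coprime_one_right n, by simp⟩
    · obtain ⟨e, m, hem, rfl⟩ := Nat.exists_eq_pow_mul_and_not_dvd hn.ne' p hp.ne_one
      exact ⟨e, m, ((Nat.Prime.coprime_iff_not_dvd hp).2 hem).symm, rfl⟩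
  have hm0 : 0 < m := Nat.pos_of_mul_pos_left hn
  let P := ((𝟙 G : G ⟶ G) ^ (p ^ (h + a))).left
  have hw : P x ∈ SGA3x.neutralSet G := tn_mono G (Dvd.intro (p ^ a) (pow_add p h a).symm) hx
  have hzw : P y ⤳ P x := hy.map P.continuous
  have hzm : P y ∈ tn G m := by
    show _ ∈ SGA3x.neutralSet G
    rw [pow_left_pow]
    exact tn_mono G (Dvd.intro (p ^ h) (by rw [pow_add]; ring)) hyn
  suffices hz : P y ∈ SGA3x.neutralSet G from ⟨h + a, hz⟩
  generalize P y = z at hzw hzm ⊢
  generalize P x = w at hw hzw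
  -- roots
  have hroot : ∀ j : ℕ, ∃ v ∈ SGA3x.neutralSet G, ((𝟙 G : G ⟶ G) ^ (m ^ j)).left.base v = w := fun j => by
    haveI : IsMonHom ((𝟙 G : G ⟶ G) ^ (m ^ j)) := GrpDeligne.isMonHom_pow _ _
    exact (image_neutralSet_of_isOpenMap G G _ (hopen _ (Nat.pow_pos hm0) (Nat.Coprime.pow_left j hm))).ge hw
  choose v hv hvw using hroot
  have hlift : ∀ j, ∃ q, q ⤳ v j ∧ ((𝟙 G : G ⟶ G) ^ (m ^ j)).left.base q = z := fun j => by
    obtain ⟨q, h1, h2⟩ := GrothLib.GenMap.generalizingMap_of_isOpenMap _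
      (hopen _ (Nat.pow_pos hm0) (Nat.Coprime.pow_left j hm)) (a := v j) (b := z) (by rw [hvw j]; exact hzw)
    exact ⟨q, h1, h2⟩
  choose q hq hqz using hlift
  obtain ⟨S₀, hS₀, hwS, -⟩ := GrothLib.Constr.exists_affine_nhd (G.hom w) isOpen_univ (Set.mem_univ _)
  haveI : QuasiSeparatedSpace S₀.toScheme := GrothLib.Constr.quasiSeparatedSpace_of_isAffineOpen hS₀
  obtain ⟨U, hU, -, hsub⟩ := exists_isCompact_supset G (hG G) S₀ hS₀.isCompact
  let t := G.hom z
  have hqt : ∀ j, G.hom (q j) = t := fun j => by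
    show _ = G.hom z
    rw [← hqz j, pow_hom]
  have hqU : ∀ j, q j ∈ U := fun j => (hq j).mem_open U.2 (hsub ⟨hv j, by
    show G.hom (v j) ∈ S₀
    rw [← pow_hom G (v j) (m ^ j), hvw j]
    exact hwS⟩)
  haveI : CompactSpace U.toScheme := isCompact_iff_compactSpace.1 hU
  haveI : IsNoetherian U.toScheme := {}
  haveI : TopologicalSpace.NoetherianSpace (U : Set G.left) :=
    inferInstanceAs (TopologicalSpace.NoetherianSpace ↥U.toScheme)
  let Y : Set G.left := (U : Set G.left) ∩ G.hom ⁻¹' {t}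
  haveI : TopologicalSpace.NoetherianSpace Y :=
    (Topology.IsEmbedding.inclusion (Set.inter_subset_left : Y ⊆ (U : Set G.left))).isInducing.noetherianSpace
  haveI := (TopologicalSpace.NoetherianSpace.finite_irreducibleComponents (α := Y)).to_subtype
  obtain ⟨i, j, hne, heq⟩ := Finite.exists_ne_map_eq_of_infinite (fun j : ℕ =>
    (⟨irreducibleComponent (⟨q j, hqU j, hqt j⟩ : Y), irreducibleComponent_mem_irreducibleComponents _⟩ :
      irreducibleComponents Y))
  wlog hij : i < j generalizing i j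
  · exact this j i (Ne.symm hne) heq.symm (lt_of_le_of_ne (not_lt.1 hij) (Ne.symm hne))
  let C : Set Y := irreducibleComponent (⟨q i, hqU i, hqt i⟩ : Y)
  have hj : q j ∈ tn G (m ^ (i + 1)) := by
    refine mem_tn_of_isPreconnected G ((isIrreducible_irreducibleComponent (x := (⟨q i, hqU i, hqt i⟩ : Y))).isPreirreducible.isPreconnected.image
      Subtype.val continuous_subtype_val.continuousOn) (t := t) ?_ ⟨_, mem_irreducibleComponent, rfl⟩
      (b := q j) ?_ ?_
    · rintro _ ⟨c, -, rfl⟩; exact c.2.2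
    · exact ⟨(⟨q j, hqU j, hqt j⟩ : Y), (congrArg Subtype.val heq).ge mem_irreducibleComponent, rfl⟩
    · show _ ∈ SGA3x.neutralSet G
      rw [pow_succ, ← pow_left_pow, hqz i]
      exact hzm
  have hfin : q j ∈ tn G (m ^ j) := tn_mono G (pow_dvd_pow m hij) hj
  rw [← hqz j]
  exact hfin

end Rho

end GrothLib.TorsGrp26
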